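import Groth.Agent.Hens.Local
import Groth.Agent.Hensel.Local
import Mathlib

/-!
# Images of integral morphisms with finite fibres

If `p : X ⟶ Z` is surjective and `X` is integral with finite fibres over `Spec Γ(Z, ⊤)`, for `Z` qcqs,
then `Z ⟶ Spec Γ(Z, ⊤)` is injective, so `Z` is affine.
-/

set_option linter.style.haveILetI false

universe u

open CategoryTheory CategoryTheory.Limits AlgebraicGeometry TopologicalSpace Opposite

noncomputable section

namespace Groth.Agent.ChevImg70

theorem exists_idem {C B : Type*} [CommRing C] [HenselianLocalRing C] [CommRing B] [Algebra C B]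
    [Algebra.IsIntegral C B] (M N : Ideal B) [M.IsMaximal] [N.IsMaximal] (h : M ≠ N) :
    ∃ e : B, IsIdempotentElem e ∧ e ∈ M ∧ e ∉ N := by
  obtain ⟨b, hbM, hbN⟩ := SetLike.not_le_iff_exists.mp fun hle => h (‹M.IsMaximal›.eq_of_le
    Ideal.IsPrime.ne_top' hle)
  let S := Algebra.adjoin C {b}
  haveI : Module.Finite C S := Module.Finite.iff_fg.mpr
    (IsIntegral.fg_adjoin_singleton (Algebra.IsIntegral.isIntegral b))
  haveI : Algebra.IsIntegral S B := Algebra.IsIntegral.tower_top C
  let m := M.comap (algebraMap S B)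
  let n := N.comap (algebraMap S B)
  haveI : m.IsMaximal := Ideal.isMaximal_comap_of_isIntegral_of_isMaximal M
  haveI : n.IsMaximal := Ideal.isMaximal_comap_of_isIntegral_of_isMaximal N
  obtain ⟨k, e, he, hloc⟩ := Groth.Agent.Hensel.exists_pi_local (R := C) S
  have hex : ∃ i, e i ∉ n := by
    by_contra! hall
    exact Ideal.IsPrime.ne_top' ((Ideal.eq_top_iff_one n).mpr
      (he.complete ▸ Ideal.sum_mem n fun i _ => hall i))
  obtain ⟨i, hi⟩ := hex
  have hn : Ideal.span {1 - e i} ≤ n := by
    rw [Ideal.span_singleton_le_iff_mem]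
    refine ((inferInstance : n.IsPrime).mem_or_mem (x := e i) (y := 1 - e i) ?_).resolve_left hi
    rw [mul_sub, mul_one, (he.idem i).eq, sub_self]
    exact zero_mem n
  refine ⟨algebraMap S B (e i), (he.idem i).map _, ?_, hi⟩
  change e i ∈ m
  by_contra hm'
  have hm : Ideal.span {1 - e i} ≤ m := by
    rw [Ideal.span_singleton_le_iff_mem]
    refine ((inferInstance : m.IsPrime).mem_or_mem (x := e i) (y := 1 - e i) ?_).resolve_left hm'
    rw [mul_sub, mul_one, (he.idem i).eq, sub_self]
    exact zero_mem m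
  haveI := hloc i
  let π := Ideal.Quotient.mk (Ideal.span {1 - e i})
  have hmax : ∀ (I : Ideal S) [I.IsMaximal], Ideal.span {1 - e i} ≤ I →
      I.map π = IsLocalRing.maximalIdeal _ := by
    intro I _ hI
    refine IsLocalRing.eq_maximalIdeal ((Ideal.map_eq_top_or_isMaximal_of_surjective π
      Ideal.Quotient.mk_surjective ‹_›).resolve_left fun htop => ?_)
    have := congrArg (Ideal.comap π) htop
    rw [Ideal.comap_map_of_surjective π Ideal.Quotient.mk_surjective, Ideal.comap_top,
      ← RingHom.ker_eq_comap_bot, Ideal.mk_ker, sup_eq_left.mpr hI] at this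
    exact Ideal.IsPrime.ne_top' this
  have : m = n := by
    have := congrArg (Ideal.comap π) ((hmax m hm).trans (hmax n hn).symm)
    rwa [Ideal.comap_map_of_surjective π Ideal.Quotient.mk_surjective,
      Ideal.comap_map_of_surjective π Ideal.Quotient.mk_surjective,
      ← RingHom.ker_eq_comap_bot, Ideal.mk_ker, sup_eq_left.mpr hm, sup_eq_left.mpr hn] at this
  have hb : (⟨b, Algebra.self_mem_adjoin_singleton C b⟩ : S) ∈ m := hbM
  rw [this] at hb
  exact hbN hb

theorem isClopen_le_maximal {C B : Type*} [CommRing C] [HenselianLocalRing C] [CommRing B]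
    [Algebra C B] [Algebra.IsIntegral C B] (hfin : {M : Ideal B | M.IsMaximal}.Finite)
    (M : Ideal B) [M.IsMaximal] : IsClopen {Q : PrimeSpectrum B | Q.asIdeal ≤ M} := by
  classical
  have h : ∀ M' : Ideal B, ∃ e : B, M'.IsMaximal → M' ≠ M → IsIdempotentElem e ∧ e ∈ M' ∧ e ∉ M := by
    intro M'
    by_cases h₁ : M'.IsMaximal
    · by_cases h₂ : M' = M
      · exact ⟨0, fun _ hne => absurd h₂ hne⟩
      · obtain ⟨e, he⟩ := exists_idem (C := C) M' M h₂
        exact ⟨e, fun _ _ => he⟩
    · exact ⟨0, fun h _ => absurd h h₁⟩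
  choose e he using h
  let s := hfin.toFinset.erase M
  have hs : ∀ M' ∈ s, IsIdempotentElem (e M') ∧ e M' ∈ M' ∧ e M' ∉ M := fun M' hM' => by
    obtain ⟨h₁, h₂⟩ := Finset.mem_erase.mp hM'
    exact he M' (hfin.mem_toFinset.mp h₂) h₁
  let ε := ∏ M' ∈ s, e M'
  have hεi : IsIdempotentElem ε := by
    change ε * ε = ε
    rw [← Finset.prod_mul_distrib]
    exact Finset.prod_congr rfl fun M' hM' => (hs M' hM').1.eq
  have hεM : ε ∉ M := fun h => by
    obtain ⟨M', hM', h'⟩ := (Ideal.IsPrime.prod_mem_iff).mp h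
    exact (hs M' hM').2.2 h'
  have heq : {Q : PrimeSpectrum B | Q.asIdeal ≤ M} = (PrimeSpectrum.basicOpen ε : Set _) := by
    ext Q
    refine ⟨fun hQ h => hεM (hQ h), fun hQ => ?_⟩
    obtain ⟨M', hM', hQM'⟩ := Q.asIdeal.exists_le_maximal Q.2.ne_top
    by_contra hne
    have hM's : M' ∈ s := Finset.mem_erase.mpr ⟨fun h => hne (h ▸ hQM'), hfin.mem_toFinset.mpr hM'⟩
    have h1 : 1 - ε ∈ M' := hQM' ((Q.2.mem_or_mem (x := ε) (y := 1 - ε) (by
      rw [mul_sub, mul_one, hεi.eq, sub_self]; exact zero_mem _)).resolve_left hQ)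
    have h2 : ε ∈ M' := Ideal.prod_mem _ hM's (hs M' hM's).2.1
    exact hM'.ne_top ((Ideal.eq_top_iff_one _).mpr (by simpa using add_mem h1 h2))
  rw [heq]
  refine ⟨⟨?_⟩, (PrimeSpectrum.basicOpen ε).isOpen⟩
  have : (PrimeSpectrum.basicOpen ε : Set (PrimeSpectrum B))ᶜ = PrimeSpectrum.basicOpen (1 - ε) := by
    ext Q
    simp only [Set.mem_compl_iff, SetLike.mem_coe, PrimeSpectrum.mem_basicOpen, not_not]
    refine ⟨fun h h' => Q.2.ne_top ((Ideal.eq_top_iff_one _).mpr (by simpa using add_mem h' h)),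
      fun h => (Q.2.mem_or_mem (x := ε) (y := 1 - ε) (by
        rw [mul_sub, mul_one, hεi.eq, sub_self]; exact zero_mem _)).resolve_right h⟩
  rw [this]
  exact (PrimeSpectrum.basicOpen (1 - ε)).isOpen

/-- A closed surjection out of the spectrum of an integral algebra with finitely many maximal ideals
over a henselian local ring separates the closed points by clopen sets. -/
theorem exists_isClopen {C B : Type*} [CommRing C] [HenselianLocalRing C] [CommRing B]
    [Algebra C B] [Algebra.IsIntegral C B] (hfin : {M : Ideal B | M.IsMaximal}.Finite)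
    {Z : Type*} [TopologicalSpace Z] (p : PrimeSpectrum B → Z) (hp : Continuous p)
    (hc : IsClosedMap p) (hs : Function.Surjective p) {y₁ y₂ : Z} (h₁ : IsClosed {y₁})
    (h₂ : IsClosed {y₂}) (hne : y₁ ≠ y₂) : ∃ U : Set Z, IsClopen U ∧ y₁ ∈ U ∧ y₂ ∉ U := by
  let A : Set (PrimeSpectrum B) := ⋃ M ∈ {M : PrimeSpectrum B | M.asIdeal.IsMaximal ∧ p M = y₁},
    {Q | Q.asIdeal ≤ M.asIdeal}
  have hT : {M : PrimeSpectrum B | M.asIdeal.IsMaximal ∧ p M = y₁}.Finite :=
    (hfin.preimage (f := PrimeSpectrum.asIdeal) (fun _ _ _ _ h => PrimeSpectrum.ext h)).subset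
      fun _ h => h.1
  have hA : IsClopen A := hT.isClopen_biUnion fun M hM => by
    haveI := hM.1
    exact isClopen_le_maximal (C := C) hfin M.asIdeal
  have hmax : ∀ x, ∃ M : PrimeSpectrum B, M.asIdeal.IsMaximal ∧ x ⤳ M := fun x => by
    obtain ⟨M, hM, hle⟩ := x.asIdeal.exists_le_maximal x.2.ne_top
    exact ⟨⟨M, hM.isPrime⟩, hM, (PrimeSpectrum.le_iff_specializes _ _).mp hle⟩
  have hdisj : ∀ x₁ ∈ A, ∀ x₂ ∉ A, p x₁ ≠ p x₂ := by
    intro x₁ hx₁ x₂ hx₂ he
    obtain ⟨M₁, hM₁, hle⟩ := Set.mem_iUnion₂.mp hx₁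
    have hsp : y₁ ∈ closure {p x₂} := by
      rw [← he, ← hM₁.2]
      exact ((((PrimeSpectrum.le_iff_specializes x₁ M₁).mp hle).map hp).mem_closure)
    rw [← Set.image_singleton, hc.closure_image_eq_of_continuous hp] at hsp
    obtain ⟨x, hx, hxy⟩ := hsp
    obtain ⟨M, hM, hxM⟩ := hmax x
    have hMy : p M = y₁ := by
      have := (hxM.map hp).mem_closure
      rw [hxy, h₁.closure_eq] at this
      exact this
    exact hx₂ (Set.mem_iUnion₂.mpr ⟨M, ⟨hM, hMy⟩,
      (PrimeSpectrum.le_iff_specializes x₂ M).mpr ((specializes_iff_mem_closure.mpr hx).trans hxM)⟩)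
  have hU : p '' A = (p '' Aᶜ)ᶜ := by
    ext z
    refine ⟨fun ⟨a, ha, haz⟩ ⟨b, hb, hbz⟩ => hdisj a ha b hb (haz.trans hbz.symm), fun hz => ?_⟩
    obtain ⟨x, rfl⟩ := hs z
    exact ⟨x, by_contra fun hx => hz ⟨x, hx, rfl⟩, rfl⟩
  refine ⟨p '' A, ⟨hc _ hA.1, hU ▸ (hc _ hA.2.isClosed_compl).isOpen_compl⟩, ?_, ?_⟩
  · obtain ⟨x, rfl⟩ := hs y₁
    obtain ⟨M, hM, hxM⟩ := hmax x
    have hMy : p M = p x := by
      have := (hxM.map hp).mem_closure
      rwa [h₁.closure_eq] at this
    exact ⟨x, Set.mem_iUnion₂.mpr ⟨M, ⟨hM, hMy⟩, (PrimeSpectrum.le_iff_specializes _ _).mpr hxM⟩, rfl⟩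
  · rintro ⟨x, hx, hxy⟩
    obtain ⟨M, ⟨hM, hMy⟩, hxM⟩ := Set.mem_iUnion₂.mp hx
    have := (((PrimeSpectrum.le_iff_specializes x M).mp hxM).map hp).mem_closure
    rw [hxy, h₂.closure_eq, hMy] at this
    exact hne this

/-- A scheme whose ring of global functions is local is connected. -/
theorem eq_univ_of_isClopen (Z : Scheme.{u}) [IsLocalRing Γ(Z, ⊤)] {U : Set Z} (hU : IsClopen U)
    {y : Z} (hy : y ∈ U) : U = Set.univ := by
  classical
  by_contra hne
  obtain ⟨y', hy'⟩ := (Set.ne_univ_iff_exists_notMem U).mp hne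
  let V : Z.Opens := ⟨U, hU.2⟩
  let W : Z.Opens := ⟨Uᶜ, hU.1.isOpen_compl⟩
  let F : Bool → Z.Opens := fun b => cond b V W
  let sf : ∀ b, Γ(Z, F b) := fun b =>
    match b with
    | true => 1
    | false => 0
  have hcov : (⊤ : Z.Opens) ≤ iSup F := fun x _ => by
    by_cases hx : x ∈ U
    · exact Opens.mem_iSup.mpr ⟨true, hx⟩
    · exact Opens.mem_iSup.mpr ⟨false, hx⟩
  have key : ∀ a b : Γ(Z, ⊤), (∀ i, (Z.presheaf.map (homOfLE (le_top : F i ≤ ⊤)).op).hom a =
      (Z.presheaf.map (homOfLE (le_top : F i ≤ ⊤)).op).hom b) → a = b := fun a b h =>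
    Z.sheaf.eq_of_locally_eq' F ⊤ (fun i => homOfLE le_top) hcov a b h
  obtain ⟨s, hs⟩ : ∃ s : Γ(Z, ⊤), ∀ i,
      (Z.presheaf.map (homOfLE (le_top : F i ≤ ⊤)).op).hom s = sf i := by
    obtain ⟨s, hs, -⟩ := Z.sheaf.existsUnique_gluing' F ⊤ (fun b => homOfLE le_top) hcov sf (by
      intro i j
      cases i <;> cases j <;> first
        | rfl
        | (refine @Subsingleton.elim _ ?_ _ _
           refine CommRingCat.subsingleton_of_isTerminal (Z.sheaf.isTerminalOfEqEmpty ?_)
           ext x
           simp [F, V, W]))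
    exact ⟨s, hs⟩
  have hidem : IsIdempotentElem s := by
    refine key _ _ fun b => ?_
    rw [map_mul, hs b]
    cases b
    · exact mul_zero _
    · exact mul_one _
  rcases IsLocalRing.isUnit_or_isUnit_one_sub_self s with h | h
  · have h1 : s = 1 := h.mul_left_cancel (hidem.eq.trans (mul_one _).symm)
    have := hs false
    rw [h1, map_one] at this
    haveI hne' : Nonempty (W : Z.Opens).toScheme := ⟨⟨y', hy'⟩⟩
    exact (one_ne_zero : (1 : Γ(Z, W)) ≠ 0) this
  · have h1 : s = 0 := by
      refine h.mul_right_eq_zero.mp ?_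
      rw [sub_mul, one_mul, hidem.eq, sub_self]
    have := hs true
    rw [h1, map_zero] at this
    haveI hne' : Nonempty (V : Z.Opens).toScheme := ⟨⟨y, hy⟩⟩
    exact (one_ne_zero : (1 : Γ(Z, V)) ≠ 0) this.symm

theorem isAffine_of_surjective_integral_finite_fibres {X Z : Scheme.{u}} [QuasiSeparatedSpace Z]
    (p : X ⟶ Z) [Surjective p] [IsSeparated Z.toSpecΓ] [IsIntegralHom (p ≫ Z.toSpecΓ)]
    (hfin : ∀ c, ((p ≫ Z.toSpecΓ).base ⁻¹' {c}).Finite) : IsAffine Z := by
  let r := Z.toSpecΓ
  haveI : IsSeparated r := ‹IsSeparated Z.toSpecΓ›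
  haveI : IsIntegralHom (p ≫ r) := ‹IsIntegralHom (p ≫ Z.toSpecΓ)›
  haveI : UniversallyClosed r := UniversallyClosed.of_comp_surjective p r
  haveI : QuasiCompact r := inferInstance
  haveI : UniversallyClosed p := UniversallyClosed.of_comp_of_isSeparated p r
  haveI : CompactSpace Z := QuasiCompact.compactSpace_of_compactSpace r
  have hinj : Function.Injective r := by
    intro z₁ z₂ hz
    by_contra hne
    let R := Localization.AtPrime (r z₁ : PrimeSpectrum Γ(Z, ⊤)).asIdeal
    let H := Hens.Henselization R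
    letI : Algebra Γ(Z, ⊤) H := ((algebraMap R H).comp (algebraMap Γ(Z, ⊤) R)).toAlgebra
    let g : Spec (.of H) ⟶ Spec Γ(Z, ⊤) := Spec.map (CommRingCat.ofHom (algebraMap Γ(Z, ⊤) H))
    haveI : Flat g := by
      rw [HasRingHomProperty.Spec_iff (P := @Flat)]
      exact RingHom.Flat.comp (RingHom.flat_algebraMap_iff.mpr inferInstance)
        (RingHom.flat_algebraMap_iff.mpr inferInstance)
    let m : Spec (.of H) := IsLocalRing.closedPoint H
    have hm : g m = r z₁ := by
      apply PrimeSpectrum.ext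
      change (IsLocalRing.maximalIdeal H).comap ((algebraMap R H).comp (algebraMap Γ(Z, ⊤) R)) = _
      rw [← Ideal.comap_comap, IsLocalRing.maximalIdeal_comap]
      exact IsLocalization.AtPrime.comap_maximalIdeal R _
    let X' := pullback (p ≫ r) g
    let q := pullback.snd (p ≫ r) g
    let p' : X' ⟶ pullback r g := pullback.lift (pullback.fst _ _ ≫ p) q
      (by rw [Category.assoc]; exact pullback.condition)
    have hp' : IsPullback (pullback.fst (p ≫ r) g) p' p (pullback.fst r g) :=
      IsPullback.of_bot (by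
        rw [pullback.lift_snd]; exact IsPullback.of_hasPullback (p ≫ r) g)
        (pullback.lift_fst _ _ _).symm (IsPullback.of_hasPullback r g)
    haveI : Surjective p' := MorphismProperty.of_isPullback (P := @Surjective) hp' ‹_›
    haveI : UniversallyClosed p' := MorphismProperty.of_isPullback (P := @UniversallyClosed) hp' ‹_›
    haveI : IsAffine X' := isAffine_of_isAffineHom q
    let q' : Spec Γ(X', ⊤) ⟶ Spec (.of H) := X'.isoSpec.inv ≫ q
    let p'' : Spec Γ(X', ⊤) ⟶ pullback r g := X'.isoSpec.inv ≫ p'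
    obtain ⟨φ, hφ⟩ := Spec.map_surjective q'
    letI : Algebra H Γ(X', ⊤) := φ.hom.toAlgebra
    haveI : Algebra.IsIntegral H Γ(X', ⊤) := by
      haveI : IsIntegralHom (Spec.map φ) := by rw [hφ]; infer_instance
      exact ⟨IsIntegralHom.SpecMap_iff.mp this⟩
    haveI : HenselianLocalRing H := inferInstance
    have hpq : p'' ≫ pullback.snd r g = Spec.map φ := by
      rw [hφ, Category.assoc, pullback.lift_snd]
    -- the closed fibre is finite
    have hfib : (q ⁻¹' {m}).Finite := by
      let ι : Spec (.of (IsLocalRing.ResidueField H)) ⟶ Spec (.of H) :=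
        Spec.map (CommRingCat.ofHom (IsLocalRing.residue H))
      haveI : IsPreimmersion (ι ≫ g) := by
        haveI : IsIso (CommRingCat.ofHom (IsLocalRing.ResidueField.map (algebraMap R H))) :=
          (ConcreteCategory.isIso_iff_bijective _).mpr Hens.residueMap_henselization_bijective
        haveI : IsPreimmersion (Spec.map (CommRingCat.ofHom (algebraMap Γ(Z, ⊤) R))) :=
          IsPreimmersion.of_isLocalization (r z₁ : PrimeSpectrum Γ(Z, ⊤)).asIdeal.primeCompl
        haveI : IsClosedImmersion (Spec.map (CommRingCat.ofHom (IsLocalRing.residue R))) :=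
          IsClosedImmersion.spec_of_surjective _ IsLocalRing.residue_surjective
        have : ι ≫ g = Spec.map (CommRingCat.ofHom (IsLocalRing.ResidueField.map (algebraMap R H))) ≫
            Spec.map (CommRingCat.ofHom (IsLocalRing.residue R)) ≫
            Spec.map (CommRingCat.ofHom (algebraMap Γ(Z, ⊤) R)) := by
          simp only [ι, g, ← Spec.map_comp]
          rfl
        rw [this]
        infer_instance
      have hP := (IsPullback.of_hasPullback q ι).paste_horiz (IsPullback.of_hasPullback (p ≫ r) g)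
      haveI : IsPreimmersion (pullback.fst q ι ≫ pullback.fst (p ≫ r) g) :=
        MorphismProperty.of_isPullback (P := @IsPreimmersion) hP.flip ‹_›
      have hι : ∀ t, ι t = m := fun t => by
        apply PrimeSpectrum.ext
        change t.asIdeal.comap (IsLocalRing.residue H) = IsLocalRing.maximalIdeal H
        rw [(IsSimpleOrder.eq_bot_or_eq_top t.asIdeal).resolve_right t.2.ne_top,
          ← RingHom.ker_eq_comap_bot, IsLocalRing.ker_residue]
      refine Set.Finite.of_finite_image ?_ (f := pullback.fst (p ≫ r) g) ?_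
      · refine (hfin (r z₁)).subset ?_
        rintro _ ⟨w, hw, rfl⟩
        have := congrArg g (show q w = m from hw)
        rw [← Scheme.Hom.comp_apply, ← pullback.condition, Scheme.Hom.comp_apply, hm] at this
        exact this
      · intro w hw w' hw' he
        obtain ⟨v, hv, -⟩ := Scheme.Pullback.exists_preimage_pullback w (default : Spec _)
          ((show q w = m from hw).trans (hι _).symm)
        obtain ⟨v', hv', -⟩ := Scheme.Pullback.exists_preimage_pullback w' (default : Spec _)
          ((show q w' = m from hw').trans (hι _).symm)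
        have : v = v' := (pullback.fst q ι ≫ pullback.fst (p ≫ r) g).isEmbedding.injective (by
          simp only [Scheme.Hom.comp_apply, hv, hv', he])
        rw [← hv, ← hv', this]
    have hφm : ∀ M : PrimeSpectrum Γ(X', ⊤), M.asIdeal.IsMaximal ↔ Spec.map φ M = m := by
      intro M
      constructor
      · intro h
        apply PrimeSpectrum.ext
        exact IsLocalRing.eq_maximalIdeal (Ideal.isMaximal_comap_of_isIntegral_of_isMaximal M.asIdeal)
      · intro h
        apply Ideal.isMaximal_of_isIntegral_of_isMaximal_comap (R := H)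
        have : M.asIdeal.comap (algebraMap H Γ(X', ⊤)) = IsLocalRing.maximalIdeal H :=
          congrArg PrimeSpectrum.asIdeal h
        rw [this]; infer_instance
    have hmaxfin : {M : Ideal Γ(X', ⊤) | M.IsMaximal}.Finite := by
      have : {M : PrimeSpectrum Γ(X', ⊤) | M.asIdeal.IsMaximal}.Finite := by
        refine (hfib.preimage X'.isoSpec.inv.homeomorph.injective.injOn).subset fun M hM => ?_
        change q (X'.isoSpec.inv M) = m
        rw [← Scheme.Hom.comp_apply]
        exact (congr($hφ M)).symm.trans ((hφm M).mp hM)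
      refine (this.image PrimeSpectrum.asIdeal).subset fun M hM => ⟨⟨M, hM.isPrime⟩, hM, rfl⟩
    -- the two points over the closed point
    obtain ⟨y₁, hy₁, hy₁'⟩ := Scheme.Pullback.exists_preimage_pullback z₁ m hm.symm
    obtain ⟨y₂, hy₂, hy₂'⟩ := Scheme.Pullback.exists_preimage_pullback z₂ m (hz.symm.trans hm.symm)
    have hclosed : ∀ y, pullback.snd r g y = m → IsClosed {y} := by
      intro y hy
      obtain ⟨M, rfl⟩ := p''.surjective y
      rw [← Scheme.Hom.comp_apply, hpq] at hy
      rw [← Set.image_singleton]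
      exact p''.isClosedMap _ ((PrimeSpectrum.isClosed_singleton_iff_isMaximal M).mpr ((hφm M).mpr hy))
    obtain ⟨U, hU, hU₁, hU₂⟩ := exists_isClopen (C := H) hmaxfin p'' p''.continuous p''.isClosedMap
      p''.surjective (hclosed y₁ hy₁') (hclosed y₂ hy₂') (fun h => hne (by rw [← hy₁, h, hy₂]))
    haveI : IsLocalRing Γ(pullback r g, ⊤) := by
      have hUX : (⊤ : (pullback r g).Opens) =
          pullback.fst r g ⁻¹ᵁ ⊤ ⊓ pullback.snd r g ⁻¹ᵁ ⊤ := by simp
      haveI i2 := isIso_pushoutSection_of_isQuasiSeparated_of_flat_right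
        (IsPullback.of_hasPullback r g) (US := ⊤) (UT := ⊤) (UX := ⊤) le_top le_top hUX
        (isAffineOpen_top _) (isAffineOpen_top _) CompactSpace.isCompact_univ
        (by simpa using isQuasiSeparated_univ_iff.mpr (inferInstanceAs (QuasiSeparatedSpace Z)))
      have h2 := (isIso_pushoutSection_iff (IsPullback.of_hasPullback r g) le_top le_top hUX).mp i2
      haveI : IsIso (r.appLE ⊤ ⊤ le_top) := by
        have e : r.appLE ⊤ ⊤ le_top = r.appTop := by
          rw [Scheme.Hom.appTop, Scheme.Hom.app_eq_appLE]; rfl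
        rw [e, Scheme.toSpecΓ_appTop]
        infer_instance
      have h3 := h2.isIso_inr_of_isIso
      haveI : IsLocalRing Γ(Spec (.of H), ⊤) :=
        (Scheme.ΓSpecIso (.of H)).symm.commRingCatIsoToRingEquiv.isLocalRing
      exact (@asIso _ _ _ _ _ h3).commRingCatIsoToRingEquiv.isLocalRing
    exact hU₂ (eq_univ_of_isClopen _ hU hU₁ ▸ Set.mem_univ y₂)
  haveI : IsAffineHom r := by
    refine isAffineHom_of_isInducing r ?_ r.isClosedMap.isClosed_range
    exact (Topology.IsClosedEmbedding.of_continuous_injective_isClosedMap r.continuous hinj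
      r.isClosedMap).isInducing
  exact isAffine_of_isAffineHom r

end Groth.Agent.ChevImg70
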